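import Cfsg.Agent.Spor.M11aA1.D0

set_option autoImplicit false
set_option maxRecDepth 100000000
set_option Elab.async false

namespace Cfsg.Agent.Spor.M11aA1

theorem ok0 : Net.okb 1 n0 = true := by decide +kernel

theorem ok1 : Net.okb 1 n1 = true := by decide +kernel

theorem rel0 : T.rel 1 [1, 1] 0 1 = true := by decide +kernel

theorem rel1 : T.rel 1 [2, 2, 1, 3, 3, 1, 3, 1, 3, 1, 2, 1, 3, 1, 2, 1, 2, 1, 3, 3, 1, 3, 3, 3, 1, 2, 1, 3, 1, 2, 1, 3, 1, 2, 2, 1, 3, 1, 2, 1, 3, 1, 2, 1, 2, 1, 3, 3, 1, 3, 1, 3, 1, 2, 1, 3, 1, 2, 1, 3, 3, 1, 2, 1, 3, 1, 2, 1, 3, 1, 2] 0 1 = true := by decide +kernel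

theorem rel2 : T.rel 1 [2, 2, 1, 3, 3, 1, 3, 3, 3, 1, 2, 1, 3, 1, 2, 1, 3, 1, 2, 2, 2, 1, 3, 3, 1, 3, 3, 3, 1, 2, 1, 3, 1, 2, 1, 3, 1, 2, 2, 2, 1, 3, 3, 1, 3, 3, 3, 1, 2, 1, 3, 1, 2, 1, 3, 1, 2] 0 1 = true := by decide +kernel

theorem rel3 : T.rel 1 [2, 2, 1, 3, 3, 3, 3, 1, 3, 3] 0 1 = true := by decide +kernel

theorem rel4 : T.rel 1 [] 0 1 = true := by decide +kernel

theorem rel5 : T.rel 1 [2, 2, 2, 2] 0 1 = true := by decide +kernel

theorem rel6 : T.rel 1 [2, 1, 2, 2, 1, 2, 1, 2, 1, 3, 1, 2, 1, 2, 2, 1, 3, 1, 2, 1, 3, 1, 2, 1, 3] 0 1 = true := by decide +kernel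

theorem rel7 : T.rel 1 [2, 1, 2, 2, 1, 3, 1, 2, 1, 2, 1, 3, 3, 1, 2, 1, 3, 1, 2, 1, 3, 1, 2, 2, 1, 3, 1, 2, 1, 3, 1, 2, 1, 2, 1, 2, 2, 1, 3, 1, 3, 1, 2, 1, 3, 1, 2, 1, 3] 0 1 = true := by decide +kernel

theorem rel8 : T.rel 1 [3, 1, 2, 1] 0 1 = true := by decide +kernel

theorem hcov : T.treeCov (ones 1) L 1 = true := by decide +kernel

theorem hg : lall (fun z => band (memL L z) (band (sub (ones 1) (T.let z).cl) (T.closed (ones 1) z))) gs = true := by decide +kernel

theorem hivk : ivOk (2 * 1) EX IV = true := by decide +kernel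

theorem hrt : RT.ok (2 * 1) EX RL = true := by decide +kernel

theorem hdefs : defs F 9 = true := by decide +kernel

noncomputable def st0_l : List Nat := [nat_lit 0x60000100000003, nat_lit 0x80000100001403, nat_lit 0xa0000200000003, nat_lit 0x1800004000000000900001800004000000000b00002800028000080000380004c00024000060000100000000024000060000100000000024000060000100001419, nat_lit 0xa0000c00001803, nat_lit 0x150000c00004c03, nat_lit 0xd00002802, nat_lit 0xe00005402, nat_lit 0xe00002002, nat_lit 0x7800044000210000f00000800000000210000f000088000020000500010000004000060001f00010000004000060001f000100000040000600022000008000140003c00022000008000140003c000220000080000c0003e000040000180007c00040000010000280007800044000010000280007800044000010000280001031, nat_lit 0x1f0001280000003, nat_lit 0xa000250000180009c04, nat_lit 0x8000a402, nat_lit 0xc0001580003403, nat_lit 0xe0001680003c03, nat_lit 0x100000700003003, nat_lit 0x100001780004403, nat_lit 0x440006600031000068000b40001e0002f000088000cc000200002f000088000cc000620000d00016800030000560000d00016800030000560000d0001680003019,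 nat_lit 0x100001a80003403, nat_lit 0x1b0000c402, nat_lit 0xe4000560000d0001c8000ac000700002d0001c8000ac0001a0002d000060000e00005a00039000158000e00005a00039000158000e00005a00039000068000b4000180002b000068000b4000180002b000068000b4000720002b000068000e4000560003800016800030000560000d00016800030000560000d0001680003031, nat_lit 0x68000ec02]
theorem st0 : band (steps F IV RT base st0_l 9) (Nat.beq (Nat.add 9 (llen st0_l)) 31) = true := by decide +kernel

theorem ep0a : T.treePath [] (Nat.shiftLeft 1 0) 1 = true := by decide +kernel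

theorem ep0b : T.treePath [] (Nat.shiftLeft 1 0) 1 = true := by decide +kernel

theorem ep0c : band (lall (fun z => Nat.ble z 255) ([] ++ 1 :: [])) (concl F IV 31 0xa801 (encA ([] ++ 1 :: []) 0)) = true := by decide +kernel

theorem ep0d : band (Rule.ok (2 * 1) EX [] ⟨lapp [] [], [], 0, false⟩) (band (lall (memL L) []) (lall (memL L) [])) = true := by decide +kernel

theorem cov1 : T.cover 1 [(Nat.shiftLeft 1 0)] = true := by decide +kernel

theorem tl1 : Nat.beq (T.let 1).tt 0 = true := by decide +kernel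

theorem ep1a : T.treePath [] (Nat.shiftLeft 1 0) 1 = true := by decide +kernel

theorem ep1b : T.treePath [] (Nat.shiftLeft 1 0) 1 = true := by decide +kernel

theorem ep1c : band (lall (fun z => Nat.ble z 255) ([] ++ 2 :: [])) (concl F IV 31 0xf001 (encA ([] ++ 2 :: []) 0)) = true := by decide +kernel

theorem ep1d : band (Rule.ok (2 * 1) EX [] ⟨lapp [] [], [], 0, false⟩) (band (lall (memL L) []) (lall (memL L) [])) = true := by decide +kernel

theorem cov2 : T.cover 2 [(Nat.shiftLeft 1 0)] = true := by decide +kernel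

theorem tl2 : Nat.beq (T.let 2).tt 0 = true := by decide +kernel

theorem rot3_1 : T.rot 3 [1, 2, 1] (sel (ones 1) ip3 1) = true := by decide +kernel

theorem rot3_1r : band (Rule.ok (2 * 1) EX RL ⟨3 :: [1, 2, 1], [], 8, true⟩) (lall (memL L) [1, 2, 1]) = true := by decide +kernel

theorem cov3 : T.cover 3 [(sel (ones 1) ip3 1)] = true := by decide +kernel

theorem tl3 : Nat.beq (T.let 3).tt 0 = true := by decide +kernel

end Cfsg.Agent.Spor.M11aA1
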