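import Cfsg.Agent.Spor.Cert
import Cfsg.Agent.Spor.M11aA1.C0

set_option autoImplicit false
set_option maxRecDepth 100000000
set_option Elab.async false
set_option linter.unusedSectionVars false

namespace Cfsg.Agent.Spor.M11aA1

theorem hT : T.Ok 1 := T.ok_of 1 (show AllP (fun n => Net.okb 1 n = true) [n0, n1] from AllP.cons ok0 (AllP.cons ok1 (AllP.nil)))

noncomputable def fP : ℕ → Equiv.Perm ℕ := T.fP gs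

theorem hsq : ∀ j < 1, j < 2 → T.fP gs j * T.fP gs j = 1 :=
  Tab.sq (show AllP (fun z => evA T.τ [z, z] = 1) [1] from AllP.cons (hT.one rel0) (AllP.nil)) 2 rfl

theorem hiv : IvOk (2 * 1) (atm 2 (T.fP gs)) := ivOk_atm hsq

theorem pz1 : PZ T (atm 2 (T.fP gs)) EX 1 := PZ.of_atom (y := 2 * 0) (by decide +kernel) (atm_two_mul _ (by decide))
theorem pz2 : PZ T (atm 2 (T.fP gs)) EX 2 := PZ.of_atom (y := 2 * 1) (by decide +kernel) (atm_two_mul _ (by decide))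
theorem pz3 : PZ T (atm 2 (T.fP gs)) EX 3 := PZ.of_inv hiv pz2 (by decide +kernel)
theorem hPZ : AllP (PZ T (atm 2 (T.fP gs)) EX) L :=
  show AllP (PZ T (atm 2 (T.fP gs)) EX) [1, 2, 3] from AllP.cons pz1 (AllP.cons pz2 (AllP.cons pz3 (AllP.nil)))

theorem hrel : ∀ l ∈ RL, ev (atm 2 (T.fP gs)) l = 1 :=
  relAll_sound hiv (W := [[2, 2, 1, 3, 3, 1, 3, 1, 3, 1, 2, 1, 3, 1, 2, 1, 2, 1, 3, 3, 1, 3, 3, 3, 1, 2, 1, 3, 1, 2, 1, 3, 1, 2, 2, 1, 3, 1, 2, 1, 3, 1, 2, 1, 2, 1, 3, 3, 1, 3, 1, 3, 1, 2, 1, 3, 1, 2, 1, 3, 3, 1, 2, 1, 3, 1, 2, 1, 3, 1, 2], [2, 2, 1, 3, 3, 1, 3, 3, 3, 1, 2, 1, 3, 1, 2, 1, 3, 1, 2, 2, 2, 1, 3, 3, 1, 3, 3, 3, 1, 2, 1, 3, 1, 2, 1, 3, 1, 2, 2, 2, 1, 3, 3, 1, 3, 3, 3, 1, 2, 1, 3, 1, 2, 1, 3, 1, 2], [2, 2, 1, 3, 3, 3, 3, 1, 3, 3], [], [], [2, 2, 2, 2], [2, 1, 2,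 2, 1, 2, 1, 2, 1, 3, 1, 2, 1, 2, 2, 1, 3, 1, 2, 1, 3, 1, 2, 1, 3], [2, 1, 2, 2, 1, 3, 1, 2, 1, 2, 1, 3, 3, 1, 2, 1, 3, 1, 2, 1, 3, 1, 2, 2, 1, 3, 1, 2, 1, 3, 1, 2, 1, 2, 1, 2, 2, 1, 3, 1, 3, 1, 2, 1, 3, 1, 2, 1, 3], [3, 1, 2, 1]]) (rules := [⟨[2, 2, 1, 3, 3, 1, 3, 1, 3, 1, 2, 1, 3, 1, 2, 1, 2, 1, 3, 3, 1, 3, 3, 3, 1, 2, 1, 3, 1, 2, 1, 3, 1, 2, 2, 1, 3, 1, 2, 1, 3, 1, 2, 1, 2, 1, 3, 3, 1, 3, 1, 3, 1, 2, 1, 3, 1, 2, 1, 3, 3, 1, 2, 1, 3, 1, 2, 1, 3, 1, 2], [], 0, true⟩, ⟨[2, 2, 1, 3, 3, 1, 3, 3, 3, 1, 2, 1, 3, 1, 2, 1, 3, 1, 2, 2, 2, 1, 3, 3, 1, 3, 3, 3, 1, 2, 1, 3, 1, 2, 1, 3, 1, 2, 2, 2, 1, 3, 3, 1, 3, 3, 3, 1, 2, 1, 3, 1, 2, 1, 3, 1, 2], [], 1, true⟩, ⟨[2, 2, 1, 3, 3, 3, 3, 1, 3, 3], [], 2, true⟩, ⟨[], [], 3, true⟩, ⟨[], [], 4, true⟩, ⟨[2, 2, 2, 2], [], 5, true⟩, ⟨[2,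 1, 2, 2, 1, 2, 1, 2, 1, 3, 1, 2, 1, 2, 2, 1, 3, 1, 2, 1, 3, 1, 2, 1, 3], [], 6, true⟩, ⟨[2, 1, 2, 2, 1, 3, 1, 2, 1, 2, 1, 3, 3, 1, 2, 1, 3, 1, 2, 1, 3, 1, 2, 2, 1, 3, 1, 2, 1, 3, 1, 2, 1, 2, 1, 2, 2, 1, 3, 1, 3, 1, 2, 1, 3, 1, 2, 1, 3], [], 7, true⟩, ⟨[3, 1, 2, 1], [], 8, true⟩]) hPZ (AllP.cons (hT.one rel1) (AllP.cons (hT.one rel2) (AllP.cons (hT.one rel3) (AllP.cons (hT.one rel4) (AllP.cons (hT.one rel4) (AllP.cons (hT.one rel5) (AllP.cons (hT.one rel6) (AllP.cons (hT.one rel7) (AllP.cons (hT.one rel8) (AllP.nil)))))))))) (by decide +kernel)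

theorem hst : StepsOk F IV RT base 9 31 := (steps_sound' st0)

section
variable {G : Type} [Group G] {a : ℕ → G} (hi : IvOk (2 * 1) a) (hR : ∀ r ∈ RL, ev a r = 1)
  {H : Subgroup G} (hb : ∀ z ∈ base, letV a EX z ∈ H)
include hi hR hb

theorem let1 : LetOk H (letV a EX) T L 1 :=
  LetOk.of' hT tl1 cov1 (AllP.cons (Just.epi hT hi ep0a ep0b (seq_mem hi hR rfl hivk hrt H hb hdefs hst ep0c) ep0d) (AllP.nil))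
theorem let2 : LetOk H (letV a EX) T L 2 :=
  LetOk.of' hT tl2 cov2 (AllP.cons (Just.epi hT hi ep1a ep1b (seq_mem hi hR rfl hivk hrt H hb hdefs hst ep1c) ep1d) (AllP.nil))
theorem let3 : LetOk H (letV a EX) T L 3 :=
  LetOk.of' hT tl3 cov3 (AllP.cons (Just.rot hT hi hR rot3_1 rot3_1r) (AllP.nil))
theorem hlet : AllP (LetOk H (letV a EX) T L) L :=
  show AllP (LetOk H (letV a EX) T L) [1, 2, 3] from AllP.cons (let1 hi hR hb) (AllP.cons (let2 hi hR hb) (AllP.cons (let3 hi hR hb) (AllP.nil)))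
end

theorem cert : Cert 2 1 RL BW fP 1 :=
  Cert.of hT ⟨hsq, hrel⟩ hPZ (fun _ _ _ hi hR _ hb => hlet hi hR hb) hcov hg (by decide +kernel)

end Cfsg.Agent.Spor.M11aA1
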