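import Cfsg.Agent.Spor.Chk

set_option autoImplicit false
set_option maxRecDepth 100000000
set_option Elab.async false
noncomputable section

namespace Cfsg.Agent.Spor.M11aA1

def n0 : Net := Net.nil

def n1 : Net := Net.nil

def ip1 : List Nat := []
def l1 : Let := ⟨0, false, 0x1, 0x0, [0x0]⟩

def ip2 : List Nat := []
def l2 : Let := ⟨1, false, 0x1, 0x0, [0x0]⟩

def ip3 : List Nat := [0x1]
def l3 : Let := ⟨1, true, 0x1, 0x0, [0x1]⟩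

def F : Nat := nat_lit 0x200000000000000007000000200007000070000009000000000008000090100009000000200009000080100008000070100007000000100000000000000001000000000002000010000003000020300000000030200000000030100002000000000005000020000006000030000004000000200006000030200005000000300004000090200008000080200007000070200000000060100003000050200002000040100002000030300001000020200001000010100000

def rt0_11 : RTree := RTree.node 0x2020202 ⟨[2, 2, 2, 2], [], 5, true⟩ (RTree.node 0x302 ⟨[3, 2], [], 9, false⟩ (RTree.node 0x203 ⟨[2, 3], [], 9, false⟩ (RTree.node 0x101 ⟨[1, 1], [], 9, false⟩ (RTree.leaf) (RTree.leaf)) (RTree.leaf)) (RTree.node 0x2010301 ⟨[2, 1, 3, 1], [2], 8, false⟩ (RTree.node 0x1030102 ⟨[1, 3, 1, 2], [], 8, false⟩ (RTree.leaf) (RTree.leaf)) (RTree.leaf))) (RTree.node 0x2020103010201030102010302010202010201020103010201 ⟨[2, 2, 1, 3,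 1, 2, 1, 3, 1, 2, 1, 3, 2, 1, 2, 2, 1, 2, 1, 2, 1, 3, 1, 2, 1], [3, 0, 2, 0, 3, 0, 2, 0, 3, 0, 2, 2], 6, true⟩ (RTree.node 0x2010301020103010201030301030102010301030103030103 ⟨[2, 1, 3, 1, 2, 1, 3, 1, 2, 1, 3, 3, 1, 3, 1, 2, 1, 3, 1, 3, 1, 3, 3, 1, 3], [], 6, false⟩ (RTree.node 0x3010201 ⟨[3, 1, 2, 1], [], 8, true⟩ (RTree.leaf) (RTree.leaf)) (RTree.leaf)) (RTree.node 0x3020103010201030102010201030301030103010201030102010303010201030102010301020201030103010201030301 ⟨[3, 2, 1, 3, 1, 2, 1, 3, 1, 2, 1, 2, 1, 3, 3, 1, 3, 1, 3, 1, 2, 1, 3, 1, 2, 1, 3, 3, 1, 2, 1, 3, 1, 2, 1, 3, 1, 2, 2, 1, 3, 1, 3, 1, 2, 1, 3, 3, 1], [3], 7, false⟩ (RTree.node 0x2010301020103010201020103030103010301020103010201030301020103010201030102020103010301020103030103 ⟨[2, 1, 3, 1, 2, 1, 3, 1, 2, 1, 2, 1, 3, 3, 1, 3, 1, 3, 1, 2, 1, 3, 1, 2, 1, 3, 3, 1, 2, 1, 3, 1, 2, 1, 3,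 1, 2, 2, 1, 3, 1, 3, 1, 2, 1, 3, 3, 1, 3], [], 7, false⟩ (RTree.leaf) (RTree.leaf)) (RTree.leaf)))
def RT : RTree := rt0_11

def NT : List Net := [n0, n1]
def LT : List Let := [⟨0, false, 0, 0, []⟩, l1, l2, l3]
def T : Tab := ⟨NT, LT⟩
def EX : List (List Nat) := [[], [0], [2], [3]]
def RL : List (List Nat) := [[2, 0, 3, 0, 2, 0, 3, 0, 2, 0, 3, 3, 0, 2, 0, 3, 0, 2, 0, 3, 0, 3, 0, 3, 3, 0, 2, 0, 2, 0, 3, 0, 2, 0, 3, 0, 2, 2, 0, 3, 0, 2, 0, 3, 0, 2, 0, 3, 3, 3, 0, 3, 3, 0, 2, 0, 2, 0, 3, 0, 2, 0, 3, 0, 3, 0, 3, 3, 0, 2, 2], [2, 0, 3, 0, 2, 0, 3, 0, 2, 0, 3, 3, 3, 0, 3, 3, 0, 2, 2, 2, 0, 3, 0, 2, 0, 3, 0, 2, 0, 3, 3, 3, 0, 3, 3, 0, 2, 2, 2, 0, 3, 0, 2, 0, 3, 0, 2, 0, 3, 3, 3, 0, 3, 3, 0, 2, 2], [3, 3, 0, 3, 3, 3, 3, 0, 2, 2], [], [], [2, 2, 2, 2], [3, 0, 2, 0, 3, 0, 2, 0, 3, 0, 2, 2, 0, 2, 0, 3, 0, 2, 0, 2, 0, 2, 2, 0, 2], [3, 0, 2, 0, 3, 0, 2,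 0, 3, 0, 3, 0, 2, 2, 0, 2, 0, 2, 0, 3, 0, 2, 0, 3, 0, 2, 2, 0, 3, 0, 2, 0, 3, 0, 2, 0, 3, 3, 0, 2, 0, 2, 0, 3, 0, 2, 2, 0, 2], [0, 2, 0, 3]]
def XL : List (List Nat) := []
def BW : List (List Nat) := []
def IV : Nat := 0x2030100
def L : List Nat := [1, 2, 3]
def gs : List Nat := [1, 2]
def base : List Nat := []

end Cfsg.Agent.Spor.M11aA1
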